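import Cfsg.Agent.Lib.M24CocodeSplit.Checks
import Cfsg.Agent.Lib.M24Module.Basic
import Cfsg.Agent.Solvable.Gaschutz

/-!
An extension of M24 by the even cocode has a complement as soon as some element of order dividing
4 fixes at most 8 elements of the kernel.

* `split`: the statement.
-/

set_option autoImplicit false
set_option maxRecDepth 20000

namespace Cfsg.Agent.M24CocodeSplit.Split

open Cfsg Cfsg.Agent.Golay.Basic Cfsg.Agent.Golay.Cert Cfsg.Agent.Golay.TabList
open Cfsg.Agent.Golay.M24
open Cfsg.Agent.M24CocodeSplit.Collect Cfsg.Agent.M24CocodeSplit.Checks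

/-- Words. -/
abbrev Word : Type := GolayPt → ZMod 2

/-- A number as a vector. -/
def vec (u : ℕ) : V := fun i => bitz u i.1

/-- The word of a mask. -/
noncomputable def mw (m : ℕ) : Word := word (maskSet m)

theorem mw_xor (a b : ℕ) : mw (a ^^^ b) = mw a + mw b := by
  rw [mw, mask_maskSet_xor, word_symmDiff]; rfl

theorem mw_zero : mw 0 = 0 := by
  have h : word (maskSet 0) = 0 := by decide
  exact h

theorem mw_enc : ∀ (L : List ℕ) (u : ℕ),
    mw (enc L u) = ∑ j ∈ Finset.range L.length, bitz u j • mw (L.getD j 0)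
  | [], _ => by simp [enc, mw_zero]
  | c :: cs, u => by
    rw [enc, mw_xor, mw_enc cs, List.length_cons, Finset.sum_range_succ']
    have h1 : ∀ j, bitz (u / 2) j = bitz u (j + 1) := fun j => by
      simp only [bitz, Nat.testBit_div_two]
    have h2 : mw (u % 2 * c) = bitz u 0 • mw c := by
      rcases Nat.mod_two_eq_zero_or_one u with h | h <;>
        simp [h, bitz, Nat.testBit_zero, mw_zero]
    simp only [List.getD_cons_succ, List.getD_cons_zero, h1, h2, add_comm]

theorem bitz_enc : ∀ (L : List ℕ) (u i : ℕ),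
    bitz (enc L u) i = ∑ j ∈ Finset.range L.length, bitz (L.getD j 0) i * bitz u j
  | [], _, _ => by simp [enc, bitz_zero]
  | c :: cs, u, i => by
    rw [enc, bitz_xor, bitz_enc cs, List.length_cons, Finset.sum_range_succ']
    have h1 : ∀ j, bitz (u / 2) j = bitz u (j + 1) := fun j => by
      simp only [bitz, Nat.testBit_div_two]
    have h2 : bitz (u % 2 * c) i = bitz c i * bitz u 0 := by
      rcases Nat.mod_two_eq_zero_or_one u with h | h <;>
        simp [h, bitz, Nat.testBit_zero]
    simp only [List.getD_cons_succ, List.getD_cons_zero, h1, h2, add_comm]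

theorem rep_len : Data.rep.length = 11 := by decide +kernel

/-- A vector as a word. -/
noncomputable def repWord (x : V) : Word := ∑ j : Fin 11, x j • mw (Data.rep.getD j.1 0)

theorem repWord_add (x y : V) : repWord (x + y) = repWord x + repWord y := by
  simp only [repWord, Pi.add_apply, add_smul, Finset.sum_add_distrib]

theorem repWord_vec (u : ℕ) : repWord (vec u) = mw (enc Data.rep u) := by
  rw [mw_enc, rep_len, Finset.sum_range]; rfl

/-- A word is even. -/
def IsEven (w : Word) : Prop := ∑ p, w p = 0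

theorem isEven_add {v w : Word} (hv : IsEven v) (hw : IsEven w) : IsEven (v + w) := by
  show ∑ p, (v + w) p = 0
  rw [show ∑ p, (v + w) p = ∑ p, v p + ∑ p, w p from Finset.sum_add_distrib, hv, hw, add_zero]

theorem isEven_comp {w : Word} (hw : IsEven w) (σ : Equiv.Perm GolayPt) : IsEven (w ∘ ⇑σ) := by
  show ∑ p, w (σ p) = 0
  rw [Equiv.sum_comp σ w]; exact hw

theorem isEven_repWord (x : V) : IsEven (repWord x) := by
  have h := basisOk_eq
  simp only [basisOk, Bool.and_eq_true, List.all_eq_true] at h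
  obtain ⟨⟨hlen, hr⟩, -⟩ := h
  show ∑ p, repWord x p = 0
  simp only [repWord, Finset.sum_apply, Pi.smul_apply, smul_eq_mul]
  rw [Finset.sum_comm]
  refine Finset.sum_eq_zero fun j _ => ?_
  rw [← Finset.mul_sum]
  have hj : j.1 < Data.rep.length := by rw [rep_len]; exact j.2
  have hp : pc (Data.rep.getD j.1 0) % 2 = 0 := by
    rw [List.getD_eq_getElem _ _ hj]
    exact Nat.eq_of_beq_eq_true (hr _ (List.getElem_mem hj)).1
  have : ∑ p, mw (Data.rep.getD j.1 0) p = (((maskSet (Data.rep.getD j.1 0)).card : ℕ) : ZMod 2) := by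
    simp [mw, word, maskSet]
  rw [this, card_maskSet, (ZMod.natCast_eq_zero_iff_even).2 (Nat.even_iff.2 hp), mul_zero]

theorem add_self₂ (w : Word) : w + w = 0 := funext fun p => by
  have h : ∀ a : ZMod 2, a + a = 0 := by decide
  exact h _

theorem add_self_V (x : V) : x + x = 0 := funext fun i => by
  have h : ∀ a : ZMod 2, a + a = 0 := by decide
  exact h _

theorem pair_congr (p : GolayPt) :
    word {p} + word {none} + repWord (vec (Data.even.getD (ix p) 0)) ∈ golayCode := by
  have h := basisOk_eq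
  simp only [basisOk, Bool.and_eq_true, List.all_eq_true] at h
  have hc := word_maskSet_mem_of_isCode (h.2 (ix p) (List.mem_range.2 (ix_lt p)))
  have e : ∀ q : GolayPt, maskSet (2 ^ ix q) = {q} := fun q => by
    ext r
    simp [Nat.testBit_two_pow, ix_injective.eq_iff, eq_comm]
  have h23 : maskSet (2 ^ 23) = ({none} : Finset GolayPt) := e none
  rw [repWord_vec]
  change mw ((2 ^ ix p ^^^ 2 ^ 23) ^^^ _) ∈ golayCode at hc
  rw [mw_xor, mw_xor, mw, mw, e, h23] at hc
  exact hc

/-- The coordinates of an even word. -/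
noncomputable def coord (w : Word) : V := ∑ p, w p • vec (Data.even.getD (ix p) 0)

theorem repWord_smul (a : ZMod 2) (x : V) : repWord (a • x) = a • repWord x := by
  simp only [repWord, Pi.smul_apply, Finset.smul_sum, smul_smul, smul_eq_mul]

theorem repWord_coord (w : Word) :
    repWord (coord w) = ∑ p, w p • repWord (vec (Data.even.getD (ix p) 0)) := by
  let f : V →+ Word := AddMonoidHom.mk' repWord repWord_add
  show f _ = _
  rw [coord, map_sum]
  exact Finset.sum_congr rfl fun p _ => repWord_smul _ _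

theorem coord_congr {w : Word} (hw : IsEven w) : w + repWord (coord w) ∈ golayCode := by
  have hw' : w = ∑ p, w p • (word {p} + word {none}) := by
    funext q
    simp only [Finset.sum_apply, Pi.smul_apply, Pi.add_apply, smul_eq_mul, mul_add,
      Finset.sum_add_distrib, word, Finset.mem_singleton, mul_ite, mul_one, mul_zero,
      Finset.sum_ite_eq, Finset.mem_univ, if_true]
    by_cases hq : q = none
    · subst hq; simp [show ∑ p, w p = 0 from hw]
    · simp [hq]
  conv in w + _ => arg 1; rw [hw']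
  rw [repWord_coord, ← Finset.sum_add_distrib]
  exact Submodule.sum_mem _ fun p _ => by
    rw [← smul_add]; exact Submodule.smul_mem _ _ (pair_congr p)

theorem perm_congr {t : ℕ} {gi : List ℕ} (h : imgChk t gi = true) {σ : Equiv.Perm GolayPt}
    (hσ : IsTab t σ) (x : V) : repWord x ∘ ⇑σ⁻¹ + repWord (actX gi x) ∈ golayCode := by
  simp only [imgChk, Bool.and_eq_true, List.all_eq_true, List.mem_range] at h
  have hr := basisOk_eq
  simp only [basisOk, Bool.and_eq_true, List.all_eq_true, Nat.blt_eq] at hr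
  have e1 : repWord (actX gi x) = ∑ j : Fin 11, x j • repWord (vec (gi.getD j.1 0)) := by
    simp only [repWord, actX, Finset.sum_smul, Finset.smul_sum, smul_smul, vec]
    rw [Finset.sum_comm]
    exact Finset.sum_congr rfl fun j _ => Finset.sum_congr rfl fun i _ => by rw [mul_comm]
  have e2 : repWord x ∘ ⇑σ⁻¹ = ∑ j : Fin 11, x j • (mw (Data.rep.getD j.1 0) ∘ ⇑σ⁻¹) := by
    funext p
    simp only [repWord, Function.comp_apply, Finset.sum_apply, Pi.smul_apply]
  rw [e1, e2, ← Finset.sum_add_distrib]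
  refine Submodule.sum_mem _ fun j _ => ?_
  rw [← smul_add]
  refine Submodule.smul_mem _ _ ?_
  have hj : j.1 < Data.rep.length := by rw [rep_len]; exact j.2
  have hlt : Data.rep.getD j.1 0 < 2 ^ 24 := by
    rw [List.getD_eq_getElem _ _ hj]; exact (hr.1.2 _ (List.getElem_mem hj)).2
  have himg := imgTab_mask hσ (maskSet (Data.rep.getD j.1 0))
  rw [mask_maskSet hlt] at himg
  have hmw : mw (Data.rep.getD j.1 0) ∘ ⇑σ⁻¹ = mw (imgTab t (Data.rep.getD j.1 0)) := by
    simp only [mw]
    rw [himg, maskSet_mask, ← M24Module.Basic.permW_word]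
    rfl
  rw [hmw, repWord_vec, ← mw_xor]
  exact word_maskSet_mem_of_isCode (h.2 j.1 j.2)

section Main

attribute [local irreducible] elemT imgsT imE imP gT hT mulTab tabPerm tabOK canon imgTab enc mulNF
  mulD mulK tgt blockOf fixF hF fullTgt cp

variable {E : Type*} [Group E] [Finite E] (N : Subgroup E) [hN : N.Normal]
variable (φ : E ⧸ N ≃* ↥M24)

/-- The projection. -/
noncomputable def proj : E →* ↥M24 := φ.toMonoidHom.comp (QuotientGroup.mk' N)

theorem proj_eq_one {e : E} : proj N φ e = 1 ↔ e ∈ N := by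
  show φ (QuotientGroup.mk e) = 1 ↔ _
  rw [φ.map_eq_one_iff, QuotientGroup.eq_one_iff]

theorem proj_surjective : Function.Surjective (proj N φ) :=
  φ.surjective.comp (QuotientGroup.mk'_surjective N)

theorem split (hcard : Nat.card N = 2 ^ 11) (ε : Word → E)
    (hadd : ∀ v w, ∑ p, v p = 0 → ∑ p, w p = 0 → ε (v + w) = ε v * ε w)
    (hmem : ∀ w, ∑ p, w p = 0 → ε w ∈ N)
    (hsurj : ∀ n ∈ N, ∃ w, ∑ p, w p = 0 ∧ ε w = n)
    (hcode : ∀ w ∈ golayCode, ε w = 1)
    (hconj : ∀ (g : E) (w : Word), ∑ p, w p = 0 → g * ε w * g⁻¹ =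
      ε (fun p => w ((((φ (QuotientGroup.mk g) : ↥M24) : Equiv.Perm GolayPt))⁻¹ p)))
    (helt : ∃ g : E, g ^ 4 = 1 ∧ Nat.card {n : N // g * n * g⁻¹ = n} ≤ 8) :
    ∃ K : Subgroup E, K ⊓ N = ⊥ ∧ K ⊔ N = ⊤ := by
  classical
  -- the kernel as vectors
  let ι : V → E := fun x => ε (repWord x)
  have hιN : ∀ x, ι x ∈ N := fun x => hmem _ (isEven_repWord x)
  have hιadd : ∀ x y, ι (x + y) = ι x * ι y := fun x y => by
    show ε (repWord (x + y)) = _
    rw [repWord_add]; exact hadd _ _ (isEven_repWord x) (isEven_repWord y)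
  have hcongr : ∀ v w, IsEven v → IsEven w → v + w ∈ golayCode → ε v = ε w := by
    intro v w hv hw hvw
    have h := hadd (v + w) w (isEven_add hv hw) hw
    rwa [add_assoc, add_self₂, add_zero, hcode _ hvw, one_mul] at h
  have hι0 : ι 0 = 1 := by
    have := hιadd 0 0; rw [add_zero] at this; exact mul_eq_left.1 this.symm
  have hι2 : ∀ x, ι x * ι x = 1 := fun x => by rw [← hιadd, add_self_V, hι0]
  have hιsurj : ∀ e ∈ N, ∃ x, ι x = e := fun e he => by
    obtain ⟨w, hw, rfl⟩ := hsurj e he
    exact ⟨coord w, (hcongr _ _ hw (isEven_repWord _) (coord_congr hw)).symm⟩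
  have hιinj' : Function.Injective ι := by
    have hbij : Function.Bijective (fun x => (⟨ι x, hιN x⟩ : N)) := by
      rw [Nat.bijective_iff_surjective_and_card]
      refine ⟨fun n => ?_, ?_⟩
      · obtain ⟨x, hx⟩ := hιsurj _ n.2; exact ⟨x, Subtype.ext hx⟩
      · rw [hcard]; simp
    exact fun x y h => hbij.1 (Subtype.ext h)
  have hιinj : ∀ x, ι x = 1 → x = 0 := fun x hx => hιinj' (hx.trans hι0.symm)
  have hact : ∀ (g : E) (t : ℕ) (gi : List ℕ), imgChk t gi = true →
      IsTab t ((proj N φ g : ↥M24) : Equiv.Perm GolayPt) → ∀ x, g * ι x = ι (actX gi x) * g := by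
    intro g t gi hc ht x
    have h1 : g * ι x * g⁻¹ = ι (actX gi x) :=
      (hconj g _ (isEven_repWord x)).trans (hcongr _ _
        (isEven_comp (isEven_repWord x) _) (isEven_repWord _) (perm_congr hc ht x))
    rw [← h1, inv_mul_cancel_right]
  -- lifts
  have hC := elemsOk_eq
  simp only [elemsOk, Bool.and_eq_true, List.all_eq_true, List.mem_range] at hC
  obtain ⟨⟨⟨hCe, hCg⟩, hC0⟩, hCm⟩ := hC
  have hlift : ∀ t, tabOK t = true →
      ∃ e : E, IsTab t ((proj N φ e : ↥M24) : Equiv.Perm GolayPt) := by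
    intro t h
    obtain ⟨e, he⟩ := proj_surjective N φ ⟨tabPerm t, tabPerm_mem h⟩
    exact ⟨e, by rw [he]; exact isTab_tabPerm h⟩
  choose liftE hliftE using hlift
  have hok : ∀ {t gi}, imgChk t gi = true → tabOK t = true ∧ canon t = true := fun {t gi} h => by
    simp only [imgChk, Bool.and_eq_true] at h
    exact ⟨h.1.1.1, h.1.1.2⟩
  have hpow : ∀ k < 10, (2 : ℕ) ^ k < 1024 := fun k hk => by
    have : (2 : ℕ) ^ k ≤ 2 ^ 9 := Nat.pow_le_pow_right (by norm_num) (by omega)
    omega
  let A : ℕ → E := fun k => if hk : k < 10 then liftE _ (hok (hCm k hk).1).1 else 1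
  have hA : ∀ k < 10, IsTab (elemT (2 ^ k)) ((proj N φ (A k) : ↥M24) : Equiv.Perm GolayPt) :=
    fun k hk => by simp only [A, dif_pos hk]; exact hliftE _ _
  have heh : ∀ n ≤ 10, ∀ e < 2 ^ n,
      IsTab (elemT e) ((proj N φ (eh A n e) : ↥M24) : Equiv.Perm GolayPt) := by
    intro n
    induction n with
    | zero =>
      intro _ e he
      obtain rfl : e = 0 := by simpa using he
      rw [eh, map_one, Subgroup.coe_one, Nat.eq_of_beq_eq_true hC0]
      exact isTab_one
    | succ n ih =>
      intro hn e he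
      rcases Nat.lt_or_ge e (2 ^ n) with h | h
      · rw [eh_low A h]; exact ih (by omega) e h
      · obtain ⟨e', rfl⟩ := Nat.exists_eq_add_of_le h
        have he' : e' < 2 ^ n := by rw [pow_succ] at he; omega
        rw [eh_high, map_mul, Subgroup.coe_mul,
          Nat.eq_of_beq_eq_true ((hCm n (by omega)).2 e' he').1]
        exact isTab_mul (hA n (by omega)) (ih (by omega) e' he')
  have heh10 : ∀ e < 1024, IsTab (elemT e) ((proj N φ (eh A 10 e) : ↥M24) : Equiv.Perm GolayPt) :=
    fun e he => heh 10 le_rfl e he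
  have hcan : ∀ e < 1024, canon (elemT e) = true := fun e he => (hok (hCe e he)).2
  have hdiff : ∀ (a b : E) (t : ℕ), IsTab t ((proj N φ a : ↥M24) : Equiv.Perm GolayPt) →
      IsTab t ((proj N φ b : ↥M24) : Equiv.Perm GolayPt) → ∃ x, a = ι x * b := by
    intro a b t ha hb
    have h : proj N φ (a * b⁻¹) = 1 := by
      rw [map_mul, map_inv, show proj N φ a = proj N φ b from Subtype.ext (ha.unique hb),
        mul_inv_cancel]
    obtain ⟨x, hx⟩ := hιsurj _ ((proj_eq_one N φ).1 h)
    exact ⟨x, by rw [hx, inv_mul_cancel_right]⟩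
  have hR := relOk_eq
  simp only [relOk, Bool.and_eq_true, List.all_eq_true, List.mem_range, Nat.blt_eq] at hR
  have hbeq : ∀ {k j : ℕ}, k ≠ j → Nat.beq k j = false := fun {k j} hne => by
    cases h : Nat.beq k j with
    | false => rfl
    | true => exact absurd (Nat.eq_of_beq_eq_true h) hne
  have hfull : ∀ j < 10, ∀ k ≤ j, fullTgt k j < 1024 ∧ ∀ F : ℕ → E,
      eh F 10 (fullTgt k j) = if k = j then 1 else F j * eh F j (tgt k j) := by
    intro j hj k hk
    rcases eq_or_ne k j with rfl | hne
    · have : fullTgt k k = 0 := by simp [fullTgt]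
      refine ⟨by omega, fun F => ?_⟩
      rw [this, if_pos rfl, eh_mono F (Nat.zero_le 10) (by norm_num : 0 < 2 ^ 0), eh]
    · have hlt := (hR j hj k (by omega)).1.2
      have h2 : (2 : ℕ) ^ (j + 1) ≤ 1024 := by
        have : (2 : ℕ) ^ (j + 1) ≤ 2 ^ 10 := Nat.pow_le_pow_right (by norm_num) (by omega)
        omega
      have h3 : (2 : ℕ) ^ (j + 1) = 2 ^ j + 2 ^ j := by rw [pow_succ]; ring
      have : fullTgt k j = 2 ^ j + tgt k j := by simp [fullTgt, hbeq hne]
      refine ⟨by omega, fun F => ?_⟩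
      rw [this, if_neg hne, eh_mono F (by omega : j + 1 ≤ 10) (by omega), eh_high]
  have hrelv : ∀ j, j < 10 → ∀ k, k ≤ j → ∃ x : V, A k * A j = ι x * eh A 10 (fullTgt k j) := by
    intro j hj k hk
    refine hdiff _ _ _ ?_ (heh10 _ (hfull j hj k hk).1)
    rw [map_mul, Subgroup.coe_mul, ← Nat.eq_of_beq_eq_true (hR j hj k (by omega)).2]
    exact isTab_mul (hA k (by omega)) (hA j hj)
  choose rx hrx using hrelv
  -- the image of the family is a Sylow subgroup
  let q : ℕ → ↥M24 := fun k => proj N φ (A k)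
  have heq : ∀ n e, proj N φ (eh A n e) = eh q n e := by
    intro n
    induction n with
    | zero => intro e; exact map_one _
    | succ n ih =>
      intro e
      rw [eh, eh]
      split_ifs
      · rw [map_mul, ih]
      · exact ih e
  have hprojι : ∀ x, proj N φ (ι x) = 1 := fun x => (proj_eq_one N φ).2 (hιN x)
  have hqrel : ∀ j < 10, ∀ k ≤ j, q k * q j = eh q 10 (fullTgt k j) := by
    intro j hj k hk
    rw [← heq, ← map_mul, hrx j hj k hk, map_mul, hprojι, one_mul]
  have hqH := pc_subgroup q tgt (fun j hj k hk => (hR j hj k (by omega)).1.2)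
    (fun k hk => by
      rw [hqrel k hk k le_rfl, ← heq, (hfull k hk k le_rfl).2 A, if_pos rfl, map_one])
    (fun j hj k hk => by
      rw [hqrel j hj k hk.le, ← heq, (hfull j hj k hk.le).2 A, if_neg (by omega), map_mul, heq])
  have hinjq : ∀ n ≤ 10, ∀ a < 2 ^ n, ∀ b < 2 ^ n, eh q n a = eh q n b → a = b := by
    intro n
    induction n with
    | zero => intro _ a ha b hb _; simp at ha hb; omega
    | succ n ih =>
      intro hn
      obtain ⟨H, hH⟩ := hqH n (by omega)
      have hnot : q n ∉ H := by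
        intro hmemH
        obtain ⟨e, he, hqe⟩ := (hH _).1 hmemH
        have h1 := heh n (by omega) e he
        rw [heq, ← hqe] at h1
        have h2 := ((hCm n (by omega)).2 e he).2
        have he' : e < 1024 := lt_trans he (hpow n (by omega))
        rw [Bool.not_eq_true', eq_of_isTab (hcan _ (hpow n (by omega))) (hcan e he') (hA n (by omega)) h1,
          show Nat.beq (elemT e) (elemT e) = true from Nat.beq_refl _] at h2
        exact Bool.noConfusion h2
      have hin : ∀ e < 2 ^ n, eh q n e ∈ H := fun e he => (hH _).2 ⟨e, he, rfl⟩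
      intro a ha b hb hab
      rw [pow_succ] at ha hb
      rcases Nat.lt_or_ge a (2 ^ n) with h | h <;> rcases Nat.lt_or_ge b (2 ^ n) with h' | h'
      · rw [eh_low q h, eh_low q h'] at hab; exact ih (by omega) a h b h' hab
      · obtain ⟨b', rfl⟩ := Nat.exists_eq_add_of_le h'
        rw [eh_low q h, eh_high] at hab
        refine absurd ?_ hnot
        rw [eq_mul_inv_of_mul_eq hab.symm]
        exact mul_mem (hin a h) (inv_mem (hin b' (by omega)))
      · obtain ⟨a', rfl⟩ := Nat.exists_eq_add_of_le h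
        rw [eh_low q h', eh_high] at hab
        refine absurd ?_ hnot
        rw [eq_mul_inv_of_mul_eq hab]
        exact mul_mem (hin b h') (inv_mem (hin a' (by omega)))
      · obtain ⟨a', rfl⟩ := Nat.exists_eq_add_of_le h
        obtain ⟨b', rfl⟩ := Nat.exists_eq_add_of_le h'
        rw [eh_high, eh_high] at hab
        rw [ih (by omega) a' (by omega) b' (by omega) (mul_left_cancel hab)]
  obtain ⟨Q, hQ⟩ := hqH 10 le_rfl
  have hQcard : Nat.card Q = 2 ^ 10 := by
    have hbij : Function.Bijective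
        (fun e : Fin 1024 => (⟨eh q 10 e.1, (hQ _).2 ⟨e.1, e.2, rfl⟩⟩ : Q)) := by
      refine ⟨fun a b hab => Fin.ext ?_, ?_⟩
      · exact hinjq 10 le_rfl _ a.2 _ b.2 (congrArg Subtype.val hab)
      · rintro ⟨g, hg⟩
        obtain ⟨e, he, rfl⟩ := (hQ g).1 hg
        exact ⟨⟨e, he⟩, rfl⟩
    rw [← Nat.card_eq_of_bijective _ hbij, Nat.card_fin]; norm_num
  have hQidx : Q.index = 239085 := by
    have := Subgroup.card_mul_index Q
    rw [hQcard, card_M24] at this
    omega
  -- the given element, conjugated into the family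
  obtain ⟨g₀, hg4, hfix⟩ := helt
  haveI : Fact (Nat.Prime 2) := ⟨Nat.prime_two⟩
  have hQfix : ∃ c : ↥M24, c⁻¹ * proj N φ g₀ * c ∈ Q := by
    have hp : IsPGroup 2 (Subgroup.zpowers (proj N φ g₀)) := fun n => ⟨2, by
      obtain ⟨m, hm⟩ := Subgroup.mem_zpowers_iff.1 n.2
      apply Subtype.ext
      rw [SubmonoidClass.coe_pow, ← hm, show (2 : ℕ) ^ 2 = 4 by norm_num, ← zpow_natCast,
        ← zpow_mul, mul_comm, zpow_mul, zpow_natCast, ← map_pow, hg4, map_one, one_zpow,
        Subgroup.coe_one]⟩
    obtain ⟨x, hx⟩ : (MulAction.fixedPoints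
        (Subgroup.zpowers (proj N φ g₀)) (↥M24 ⧸ Q)).Nonempty := by
      refine hp.nonempty_fixed_point_of_prime_not_dvd_card (↥M24 ⧸ Q) ?_
      rw [← Subgroup.index_eq_card, hQidx]; norm_num
    obtain ⟨c, rfl⟩ := QuotientGroup.mk_surjective x
    refine ⟨c, ?_⟩
    have h := hx ⟨proj N φ g₀, Subgroup.mem_zpowers _⟩
    have h' := QuotientGroup.eq.1 h.symm
    simpa [mul_assoc] using h'
  obtain ⟨c, hc⟩ := hQfix
  obtain ⟨e₀, he₀, hce⟩ := (hQ _).1 hc
  obtain ⟨cE, hcE⟩ := proj_surjective N φ c
  set g := cE⁻¹ * g₀ * cE with hgdef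
  have hgT : IsTab (elemT e₀) ((proj N φ g : ↥M24) : Equiv.Perm GolayPt) := by
    rw [hgdef, map_mul, map_mul, map_inv, hcE, hce, ← heq]
    exact heh10 e₀ he₀
  have hg4' : g ^ 4 = 1 := by
    rw [hgdef]
    have := conj_pow (i := 4) (a := cE⁻¹) (b := g₀)
    rw [inv_inv] at this
    rw [this, hg4, mul_one, inv_mul_cancel]
  -- its class
  have hcls : ∃ h, tabOK (hT h) = true ∧
      mulTab (hT h) (elemT e₀) = mulTab (elemT 352) (hT h) := by
    have h := clsOk_eq
    simp only [clsOk, List.all_eq_true, List.mem_range] at h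
    have h' := h e₀ he₀
    generalize Data.cls.getD e₀ [] = us at h'
    have hgood : ∀ us : List ℕ, indep us = true →
        ((List.range 16).all fun m => Nat.beq (enc (imE e₀) (enc us m)) (enc us m)) = true →
        False := by
      intro us hind hfx
      simp only [List.all_eq_true, List.mem_range] at hfx
      simp only [indep, List.all_eq_true, List.mem_range, Bool.and_eq_true, Nat.blt_eq,
        Bool.or_eq_true, Bool.not_eq_true'] at hind
      have hlen : (imE e₀).length = 11 := by
        have := hCe e₀ he₀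
        simp only [imgChk, Bool.and_eq_true] at this
        exact Nat.eq_of_beq_eq_true this.1.2
      have hfixm : ∀ m < 16, g * ι (vec (enc us m)) * g⁻¹ = ι (vec (enc us m)) := by
        intro m hm
        rw [hact g _ _ (hCe e₀ he₀) hgT, mul_inv_cancel_right]
        congr 1
        funext i
        show _ = bitz (enc us m) i.1
        conv_rhs => rw [← Nat.eq_of_beq_eq_true (hfx m hm)]
        rw [bitz_enc, hlen, Finset.sum_range]
        rfl
      have hcf : ∀ m : Fin 16, g₀ * (cE * ι (vec (enc us m.1)) * cE⁻¹) * g₀⁻¹ =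
          cE * ι (vec (enc us m.1)) * cE⁻¹ := fun m => by
        conv_rhs => rw [← hfixm m.1 m.2, hgdef]
        group
      let f : Fin 16 → {n : N // g₀ * n * g₀⁻¹ = n} := fun m =>
        ⟨⟨cE * ι (vec (enc us m.1)) * cE⁻¹, hN.conj_mem _ (hιN _) cE⟩, hcf m⟩
      have hf : Function.Injective f := by
        intro m m' hmm
        have h1 : cE * ι (vec (enc us m.1)) * cE⁻¹ = cE * ι (vec (enc us m'.1)) * cE⁻¹ :=
          congrArg (fun n => ((n.1 : N) : E)) hmm
        have h2 := hιinj' (mul_left_cancel (mul_right_cancel h1))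
        have h3 : enc us m.1 = enc us m'.1 := by
          apply Nat.eq_of_testBit_eq
          intro i
          rcases Nat.lt_or_ge i 11 with hi | hi
          · have h4 := congrFun h2 ⟨i, hi⟩
            simp only [vec, bitz] at h4
            split_ifs at h4 with a b b <;>
              simp_all
          · have hle : (2 : ℕ) ^ 11 ≤ 2 ^ i := Nat.pow_le_pow_right (by norm_num) hi
            rw [Nat.testBit_lt_two_pow (by have := (hind m.1 m.2).1; omega),
              Nat.testBit_lt_two_pow (by have := (hind m'.1 m'.2).1; omega)]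
        rcases (hind m.1 m.2).2 m'.1 m'.2 with h | h
        · rw [h3, show Nat.beq (enc us m'.1) (enc us m'.1) = true from Nat.beq_refl _] at h
          exact Bool.noConfusion h
        · exact Fin.ext (Nat.eq_of_beq_eq_true h)
      have h16 := Nat.card_le_card_of_injective f hf
      rw [Nat.card_fin] at h16
      omega
    match us, h' with
    | [], h' =>
      exfalso
      simp only [clsChk, Bool.not_eq_true'] at h'
      have h2 := isTab_mul hgT hgT
      have h4 := isTab_mul h2 h2
      rw [← Subgroup.coe_mul, ← map_mul, ← Subgroup.coe_mul, ← map_mul,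
        show g * g * (g * g) = g ^ 4 by simp only [pow_succ, pow_zero, one_mul, mul_assoc], hg4', map_one, Subgroup.coe_one] at h4
      rw [eq_of_isTab (canon_mulTab _ _) canon_idTab h4 isTab_one,
        show Nat.beq idTab idTab = true from Nat.beq_refl _] at h'
      exact Bool.noConfusion h'
    | [h₀], h' =>
      simp only [clsChk, Bool.and_eq_true] at h'
      exact ⟨h₀, h'.1, Nat.eq_of_beq_eq_true h'.2⟩
    | a :: b :: l, h' =>
      simp only [clsChk, Bool.and_eq_true] at h'
      exact (hgood _ h'.1 h'.2).elim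
  obtain ⟨h₀, hh₀, hh₀e⟩ := hcls
  -- a lift of the distinguished element
  set hE := liftE _ hh₀ with hEdef
  set g' := hE * g * hE⁻¹ with hg'def
  have hg'4 : g' ^ 4 = 1 := by
    rw [hg'def, conj_pow, hg4', mul_one, mul_inv_cancel]
  obtain ⟨u, hu⟩ : ∃ u, g' = ι u * eh A 10 352 := by
    refine hdiff _ _ (elemT 352) ?_ (heh10 352 (by norm_num))
    have h1 := isTab_mul (hliftE _ hh₀) hgT
    rw [hh₀e] at h1
    have h2 : IsTab (mulTab (elemT 352) (hT h₀))
        (tabPerm (elemT 352) * ((proj N φ hE : ↥M24) : Equiv.Perm GolayPt)) :=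
      isTab_mul (isTab_tabPerm (hok (hCe 352 (by norm_num))).1) (hliftE _ hh₀)
    have h3 := h1.unique h2
    have h4 : ((proj N φ g' : ↥M24) : Equiv.Perm GolayPt) = tabPerm (elemT 352) := by
      rw [hg'def, map_mul, map_mul, map_inv, Subgroup.coe_mul, Subgroup.coe_mul,
        InvMemClass.coe_inv, h3, mul_inv_cancel_right]
    rw [h4]
    exact isTab_tabPerm (hok (hCe 352 (by norm_num))).1
  have hK := conjOk_eq
  simp only [conjOk, Bool.and_eq_true, List.all_eq_true, List.mem_range, Nat.blt_eq] at hK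
  let G : ℕ → E := fun u => if hu : u < 5 then liftE _ (hok (hCg u hu)).1 else 1
  have hG : ∀ u < 5, IsTab (gT u) ((proj N φ (G u) : ↥M24) : Equiv.Perm GolayPt) :=
    fun u hu => by simp only [G, dif_pos hu]; exact hliftE _ _
  have hcv : ∀ i, i < 16 → ∃ x : V,
      G (cp i).1 * eh A 10 (cp i).2.1 = ι x * (eh A 10 (cp i).2.2 * G (cp i).1) := by
    intro i hi
    obtain ⟨⟨⟨h1, h2⟩, h3⟩, h4⟩ := hK i hi
    refine hdiff _ _ (mulTab (gT (cp i).1) (elemT (cp i).2.1)) ?_ ?_
    · rw [map_mul, Subgroup.coe_mul]; exact isTab_mul (hG _ h1) (heh10 _ h2)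
    · rw [Nat.eq_of_beq_eq_true h4, map_mul, Subgroup.coe_mul]
      exact isTab_mul (heh10 _ h3) (hG _ h1)
  choose cx hcx using hcv
  -- the assignment
  let blockVal : ℕ → V := fun b =>
    if b < 55 then
      (if h : ∃ k j, j < 10 ∧ k ≤ j ∧ blockOf k j = b
        then rx _ h.choose_spec.choose_spec.1 _ h.choose_spec.choose_spec.2.1 else 0)
    else (if h : b - 55 < 16 then cx _ h else 0)
  let v : ℕ → ZMod 2 := fun i => blockVal (i / 11) ⟨i % 11, Nat.mod_lt _ (by norm_num)⟩
  have hvar : ∀ b < 71, fv v (varF b) = blockVal b := fun b hb => by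
    rw [fv_var v hb]
    funext i
    have h1 : (b * 11 + i.1) / 11 = b := by have := i.2; omega
    have h2 : (b * 11 + i.1) % 11 = i.1 := by have := i.2; omega
    show blockVal ((b * 11 + i.1) / 11) ⟨(b * 11 + i.1) % 11, _⟩ = _
    simp only [h1, h2]
  have hB := blockOk_eq
  simp only [blockOk, List.all_eq_true, List.mem_range, Bool.or_eq_true, Bool.not_eq_true',
    Bool.and_eq_true] at hB
  have hrelF : ∀ j (hj : j < 10) k (hk : k ≤ j), fv v (relF k j) = rx j hj k hk := by
    intro j hj k hk
    have hb := (hR j hj k (by omega)).1.1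
    rw [relF, hvar _ (by omega)]
    have hex : ∃ k' j', j' < 10 ∧ k' ≤ j' ∧ blockOf k' j' = blockOf k j := ⟨k, j, hj, hk, rfl⟩
    refine (if_pos hb).trans ((dif_pos hex).trans ?_)
    have key : ∀ k' j' (hj' : j' < 10) (hk' : k' ≤ j'), k' = k → j' = j →
        rx j' hj' k' hk' = rx j hj k hk := by
      rintro k' j' hj' hk' rfl rfl; rfl
    obtain ⟨s1, s2, s3⟩ := hex.choose_spec.choose_spec
    rcases hB j hj k (by omega) _ s1 _ (by omega : hex.choose < hex.choose_spec.choose + 1) with h | h
    · rw [s3, show Nat.beq (blockOf k j) (blockOf k j) = true from Nat.beq_refl _] at h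
      exact Bool.noConfusion h
    · exact key _ _ _ _ (Nat.eq_of_beq_eq_true h.1).symm (Nat.eq_of_beq_eq_true h.2).symm
  have hcF : ∀ o (ho : o < 16), fv v (cblock o) = cx o ho := fun o ho => by
    rw [cblock, hvar _ (by omega)]
    have key : ∀ r, r = o → (if h : r < 16 then cx _ h else 0) = cx o ho := by
      rintro r rfl; rw [dif_pos ho]
    exact (if_neg (by omega)).trans (key _ (Nat.add_sub_cancel_left 55 o))
  have hAct : ∀ k < 10, ∀ x, A k * ι x = ι (actX (imP k) x) * A k := fun k hk =>
    hact _ _ _ (hCm k hk).1 (hA k hk)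
  have S : Setting ι A v := by
    refine ⟨hιadd, hAct, fun k hk => ?_, fun j hj k hk => ?_⟩
    · rw [hrx k hk k le_rfl, hrelF k hk k le_rfl, (hfull k hk k le_rfl).2 A, if_pos rfl, mul_one]
    · rw [hrx j hj k hk.le, hrelF j hj k hk.le, (hfull j hj k hk.le).2 A, if_neg (by omega),
        eh_mono A (m := j) (by omega : j ≤ 10) (hR j hj k (by omega)).1.2]
  have cancel : ∀ {x y : V} {a : E}, ι x * a = ι y * a → x + y = 0 := fun {x y a} h => hιinj _ (by
    rw [hιadd, mul_right_cancel h, hι2])
  have hmul : ∀ {x y}, x < 1024 → y < 1024 → mulK x y = true → (mulD x y).1 < 1024 ∧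
      eh A 10 x * eh A 10 y = ι (fv v (mulD x y).2) * eh A 10 (mulD x y).1 :=
    fun hx hy h => S.mul_spec hx hy (mulD_spec h)
  have hactE : ∀ e < 1024, ∀ x, eh A 10 e * ι x = ι (actX (imE e) x) * eh A 10 e := fun e he =>
    hact _ _ _ (hCe e he) (heh10 e he)
  -- the equations
  have hQ' := eqsOk_eq
  simp only [eqsOk, List.all_eq_true, List.mem_range] at hQ'
  have hrow : ∀ m < 641, rv v (Data.eqRows.getD m 0) = 0 := by
    intro m hm
    have h := hQ' m hm
    generalize hw : Data.eqRows.getD m 0 = row at h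
    generalize Data.eqs.getD m (0, 0, 0, 0, 0) = e at h
    obtain ⟨kind, a, b, c, r⟩ := e
    match kind, h with
    | 0, h =>
      simp only [eqChk, Bool.and_eq_true, Nat.blt_eq] at h
      obtain ⟨⟨⟨⟨⟨⟨⟨⟨⟨hr, ha⟩, hb⟩, hc⟩, k1⟩, k2⟩, k3⟩, k4⟩, hrow⟩, hres⟩ := h
      have a' := hpow a ha
      have b' := hpow b hb
      have c' := hpow c hc
      obtain ⟨l1, e1⟩ := hmul a' b' k1
      obtain ⟨-, e2⟩ := hmul l1 c' k2
      obtain ⟨l3, e3⟩ := hmul b' c' k3
      obtain ⟨-, e4⟩ := hmul a' l3 k4
      have hkey : fv v (assocF (2 ^ a) (2 ^ b) (2 ^ c)) = 0 := by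
        have key := mul_assoc (eh A 10 (2 ^ a)) (eh A 10 (2 ^ b)) (eh A 10 (2 ^ c))
        rw [e1, mul_assoc, e2, ← mul_assoc, ← hιadd, e3, ← mul_assoc, hactE _ a', mul_assoc, e4,
          ← mul_assoc, ← hιadd, Nat.eq_of_beq_eq_true hres] at key
        rw [assocF, fv_add, fv_add, fv_add, fv_act]
        exact cancel key
      have := congrFun hkey ⟨r, hr⟩
      rw [← Nat.eq_of_beq_eq_true hrow]
      exact this
    | 1, h =>
      simp only [eqChk, Bool.and_eq_true, Nat.blt_eq] at h
      obtain ⟨⟨⟨⟨⟨⟨⟨⟨⟨⟨hr, ha⟩, hb⟩, hc⟩, hu2⟩, hu3⟩, k1⟩, k2⟩, hrow⟩, hz⟩, hz'⟩ := h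
      obtain ⟨⟨⟨hu', hq⟩, hi⟩, -⟩ := hK a ha
      obtain ⟨⟨⟨-, hq2⟩, hi2⟩, -⟩ := hK b hb
      obtain ⟨-, e1⟩ := hmul hq hq2 k1
      obtain ⟨-, e2⟩ := hmul hi hi2 k2
      have c1 := hcx a ha
      have c2 := hcx b hb
      have c3 := hcx c hc
      rw [Nat.eq_of_beq_eq_true hu2] at c2
      rw [Nat.eq_of_beq_eq_true hu3] at c3
      rw [← hcF a ha] at c1
      rw [← hcF b hb] at c2
      rw [← hcF c hc] at c3
      have key := (mul_assoc (G (cp a).1) (eh A 10 (cp a).2.1) (eh A 10 (cp b).2.1)).symm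
      rw [e1, ← mul_assoc, hact _ _ _ (hCg _ hu') (hG _ hu'), mul_assoc, Nat.eq_of_beq_eq_true hz,
        c3, c1] at key
      have key2 : ι (fv v (cblock a)) * (eh A 10 (cp a).2.2 * G (cp a).1) * eh A 10 (cp b).2.1 =
          ι (fv v (cblock a) + actX (imE (cp a).2.2) (fv v (cblock b)) +
            fv v (mulD (cp a).2.2 (cp b).2.2).2) * (eh A 10 (cp c).2.2 * G (cp a).1) := by
        rw [mul_assoc, mul_assoc (eh A 10 (cp a).2.2), c2, ← mul_assoc (eh A 10 (cp a).2.2),
          hactE _ hi, mul_assoc (ι (actX _ _)), ← mul_assoc (eh A 10 (cp a).2.2),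
          e2, Nat.eq_of_beq_eq_true hz', hιadd, hιadd]
        simp only [mul_assoc]
      rw [key2, ← mul_assoc (ι (actX _ _)), ← hιadd] at key
      have hkey : fv v (stabF a b c) = 0 := by
        rw [stabF, fv_add, fv_add, fv_add, fv_add, fv_act, fv_act]
        exact cancel key
      have := congrFun hkey ⟨r, hr⟩
      rw [← Nat.eq_of_beq_eq_true hrow]
      exact this
    | n + 2, h =>
      simp only [eqChk, Bool.and_eq_true] at h
      obtain ⟨⟨⟨⟨⟨-, k1⟩, k2⟩, hz0⟩, hrow⟩, hmove⟩ := h
      obtain ⟨l1, e1⟩ := hmul (by norm_num : 352 < 1024) (by norm_num : 352 < 1024) k1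
      obtain ⟨-, e2⟩ := hmul l1 l1 k2
      set z := (mulD 352 352).1 with hzdef
      set W1 : V := u + actX (imE 352) u + fv v (mulD 352 352).2 with hW1
      have hsq : g' * g' = ι W1 * eh A 10 z := by
        rw [hu, mul_assoc, ← mul_assoc (eh A 10 352), hactE 352 (by norm_num), mul_assoc, e1, hW1,
          hιadd, hιadd]
        simp only [mul_assoc]
      have hfour : fv v (mulD z z).2 + (W1 + actX (imE z) W1) = 0 := by
        apply hιinj
        have h44 : g' * g' * (g' * g') = 1 := by
          rw [← hg'4]; simp only [pow_succ, pow_zero, one_mul, mul_assoc]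
        rw [hsq, mul_assoc, ← mul_assoc (eh A 10 z), hactE z l1, mul_assoc, e2,
          Nat.eq_of_beq_eq_true hz0, eh_mono A (Nat.zero_le 10) (by norm_num : 0 < 2 ^ 0), eh,
          mul_one, ← hιadd, ← hιadd] at h44
        rw [← h44]; congr 1; abel
      -- apply the functional
      let w : ℕ → ZMod 2 := fun i => if hi : i < 11 then u ⟨i, hi⟩ else 0
      have hw0 : fv w (varF 0) = u := by
        rw [fv_var w (by norm_num)]
        funext i
        simp only [w, zero_mul, zero_add, dif_pos i.2]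
      have hfun : ∀ (v' : ℕ → ZMod 2) (f : List ℕ), rv v' (funF b f) =
          ∑ i : Fin 11, if b.testBit i.1 then fv v' f i else 0 := by
        intro v' f
        rw [funF, rv_selXor, Finset.sum_range]
        rfl
      have hmv : fv w (moveF 352) = actX (imE 352) u + u := by
        rw [moveF, fv_add, fv_act, hw0]
      have h0 : ∑ i : Fin 11, (if b.testBit i.1 then
          (actX (imE z) (actX (imE 352) u + u) + (actX (imE 352) u + u)) i else 0) = 0 := by
        rw [← hmv, ← fv_act, ← fv_add, ← hfun]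
        rw [Nat.eq_of_beq_eq_true hmove, rv_zero]
      rw [← Nat.eq_of_beq_eq_true hrow, hfun]
      have hact_add : ∀ x y : V, actX (imE z) (x + y) = actX (imE z) x + actX (imE z) y := by
        intro x y
        funext i
        simp only [actX, Pi.add_apply, mul_add, Finset.sum_add_distrib]
      have hsum : ∀ i : Fin 11, fv v (fourF 352) i +
          (actX (imE z) (actX (imE 352) u + u) + (actX (imE 352) u + u)) i = 0 := by
        intro i
        have h1 := congrFun hfour i
        rw [hW1, hact_add] at h1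
        rw [fourF, fv_add, fv_add, fv_act, ← hzdef, hact_add (actX (imE 352) u) u]
        rw [hact_add u (actX (imE 352) u)] at h1
        simp only [Pi.add_apply, Pi.zero_apply] at h1 ⊢
        linear_combination h1
      calc (∑ i : Fin 11, if b.testBit i.1 then fv v (fourF 352) i else 0)
          = (∑ i : Fin 11, if b.testBit i.1 then fv v (fourF 352) i else 0) +
            ∑ i : Fin 11, (if b.testBit i.1 then
              (actX (imE z) (actX (imE 352) u + u) + (actX (imE 352) u + u)) i else 0) := by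
            rw [h0, add_zero]
        _ = 0 := by
            rw [← Finset.sum_add_distrib]
            refine Finset.sum_eq_zero fun i _ => ?_
            by_cases hb : b.testBit i.1
            · rw [if_pos hb, if_pos hb]; exact hsum i
            · rw [if_neg hb, if_neg hb, add_zero]
  have hres : ∀ j < 10, ∀ k ≤ j, fv v (resF k j) = 0 := by
    intro j hj k hk
    funext i
    have h := resOk_eq
    simp only [resOk, List.all_eq_true, List.mem_range] at h
    show rv v _ = 0
    rw [Nat.eq_of_beq_eq_true (h j hj k (by omega) i.1 i.2), rv_selXor]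
    exact Finset.sum_eq_zero fun m hm => by rw [hrow m (Finset.mem_range.1 hm)]; exact ite_self _
  -- corrected lifts
  let B : ℕ → E := fun k => ι (fv v (fixF k)) * A k
  have hBe : ∀ n ≤ 10, ∀ e < 2 ^ n, eh B n e = ι (fv v (hF n e)) * eh A n e := by
    intro n
    induction n with
    | zero => intro _ e _; rw [eh, eh, hF, fv_nil, hι0, mul_one]
    | succ n ih =>
      intro hn e he
      rcases Nat.lt_or_ge e (2 ^ n) with h | h
      · rw [eh_low B h, eh_low A h, hF, if_neg (by omega)]; exact ih (by omega) e h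
      · obtain ⟨e', rfl⟩ := Nat.exists_eq_add_of_le h
        have he' : e' < 2 ^ n := by rw [pow_succ] at he; omega
        rw [eh_high, eh_high, hF, if_pos (by omega), Nat.add_sub_cancel_left, fv_add, fv_act,
          hιadd, ih (by omega) e' he']
        show ι _ * A n * (ι _ * eh A n e') = _
        rw [mul_assoc, ← mul_assoc (A n), hAct n (by omega), mul_assoc, mul_assoc]
  have hBB : ∀ j < 10, ∀ k ≤ j, B k * B j = eh B 10 (fullTgt k j) := by
    intro j hj k hk
    have hlt := (hfull j hj k hk).1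
    have h1 : B k * B j = ι (fv v (fixF k) + actX (imP k) (fv v (fixF j)) + fv v (relF k j)) *
        eh A 10 (fullTgt k j) := by
      show ι _ * A k * (ι _ * A j) = _
      rw [mul_assoc, ← mul_assoc (A k), hAct k (by omega), mul_assoc, hrx j hj k hk,
        hrelF j hj k hk, hιadd, hιadd]
      simp only [mul_assoc]
    have h2 : fv v (fixF k) + actX (imP k) (fv v (fixF j)) + fv v (relF k j) =
        fv v (hF 10 (fullTgt k j)) := by
      have h0 := hres j hj k hk
      rw [resF, fv_add, fv_add, fv_add, fv_act] at h0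
      funext i
      have h00 := congrFun h0 i
      have two : (2 : ZMod 2) = 0 := rfl
      simp only [Pi.add_apply, Pi.zero_apply] at h00 ⊢
      linear_combination h00 - fv v (hF 10 (fullTgt k j)) i * two
    rw [h1, h2, ← hBe 10 le_rfl _ hlt]
  have hBH := pc_subgroup B tgt (fun j hj k hk => (hR j hj k (by omega)).1.2)
    (fun k hk => by rw [hBB k hk k le_rfl, (hfull k hk k le_rfl).2 B, if_pos rfl])
    (fun j hj k hk => by rw [hBB j hj k hk.le, (hfull j hj k hk.le).2 B, if_neg (by omega)])
  obtain ⟨P, hP⟩ := hBH 10 le_rfl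
  have hprojB : ∀ e < 1024, proj N φ (eh B 10 e) = eh q 10 e := fun e he => by
    rw [hBe 10 le_rfl e he, map_mul, hprojι, one_mul, heq]
  have hPN : P ⊓ N = ⊥ := by
    rw [eq_bot_iff]
    rintro x ⟨hxP, hxN⟩
    obtain ⟨e, he, rfl⟩ := (hP x).1 hxP
    have h0 : eh q 10 e = eh q 10 0 := by
      rw [← hprojB e he, (proj_eq_one N φ).2 hxN,
        eh_mono q (Nat.zero_le 10) (by norm_num : 0 < 2 ^ 0), eh]
    rw [Subgroup.mem_bot, hinjq 10 le_rfl e he 0 (by norm_num) h0,
      eh_mono B (Nat.zero_le 10) (by norm_num : 0 < 2 ^ 0), eh]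
  have hPQ : P.map (proj N φ) = Q := by
    ext x
    rw [Subgroup.mem_map]
    constructor
    · rintro ⟨y, hy, rfl⟩
      obtain ⟨e, he, rfl⟩ := (hP y).1 hy
      exact (hQ _).2 ⟨e, he, hprojB e he⟩
    · intro hx
      obtain ⟨e, he, rfl⟩ := (hQ x).1 hx
      exact ⟨eh B 10 e, (hP _).2 ⟨e, he, rfl⟩, hprojB e he⟩
  have hker : (proj N φ).ker = N := by ext x; exact proj_eq_one N φ
  set U := N ⊔ P
  have hUidx : U.index = 239085 := by
    have hUmap : U.map (proj N φ) = P.map (proj N φ) := by
      rw [Subgroup.map_sup, (Subgroup.map_eq_bot_iff _).2 hker.ge, bot_sup_eq]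
    rw [← hQidx, ← hPQ, ← hUmap, Subgroup.index_map_eq _ (proj_surjective N φ)]
    rw [hker]; exact le_sup_left
  have hcomm : IsMulCommutative ↥N := isMulCommutative_iff.mpr fun a b => by
    obtain ⟨x, hx⟩ := hιsurj _ a.2
    obtain ⟨y, hy⟩ := hιsurj _ b.2
    apply Subtype.ext
    show (a : E) * b = b * a
    rw [← hx, ← hy, ← hιadd, ← hιadd, add_comm]
  have hcop : (Nat.card ↥N).Coprime U.index := by
    rw [hcard, hUidx]; norm_num
  obtain ⟨H, hH⟩ := Cfsg.Agent.Solvable.Gaschutz.exists_complement' (K := N) (U := U) (A := P)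
    le_sup_left hcop le_sup_right hPN rfl
  exact ⟨H, by rw [inf_comm]; exact disjoint_iff.1 hH.disjoint,
    by rw [sup_comm]; exact hH.sup_eq_top⟩

end Main

end Cfsg.Agent.M24CocodeSplit.Split
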