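import Cfsg.Agent.Lib.M24CocodeSplit.Collect
import Cfsg.Agent.Lib.M24CocodeSplit.Classes

/-!
The checks of the tables, the equations and the classes of elements, and the small evaluations.
-/

set_option autoImplicit false
set_option maxRecDepth 20000

namespace Cfsg.Agent.M24CocodeSplit.Checks

open Cfsg Cfsg.Agent.Golay.Basic Cfsg.Agent.Golay.Cert Cfsg.Agent.Golay.TabList
open Cfsg.Agent.Golay.M24 Cfsg.Agent.M24CocodeSplit.Collect

/-- A conjugating element. -/
def gT (u : ℕ) : ℕ := Data.gTabs.getD u idTab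

/-- Images of the basis under an element of the Sylow subgroup. -/
def imE (e : ℕ) : List ℕ := imgsT (elemT e)

/-- A table with images of the basis. -/
def imgChk (t : ℕ) (gi : List ℕ) : Bool :=
  tabOK t && canon t && Nat.beq gi.length 11 && (List.range 11).all fun j =>
    isCode (imgTab t (Data.rep.getD j 0) ^^^ enc Data.rep (gi.getD j 0))

/-- The representatives and coordinates. -/
def basisOk : Bool :=
  Nat.beq Data.rep.length 11 &&
  (Data.rep.all fun r => Nat.beq (pc r % 2) 0 && Nat.blt r 16777216) &&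
  (List.range 24).all fun i => isCode ((2 ^ i ^^^ 2 ^ 23) ^^^ enc Data.rep (Data.even.getD i 0))

theorem basisOk_eq : basisOk = true := by decide +kernel

/-- The elements. -/
def elemsOk : Bool :=
  (List.range 1024).all (fun e => imgChk (elemT e) (imE e)) &&
    (List.range 5).all (fun u => imgChk (gT u) (imgsT (gT u))) &&
    Nat.beq (elemT 0) idTab &&
    (List.range 10).all (fun n => imgChk (elemT (2 ^ n)) (imP n) && (List.range (2 ^ n)).all fun e =>
      Nat.beq (elemT (2 ^ n + e)) (mulTab (elemT (2 ^ n)) (elemT e)) &&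
        !Nat.beq (elemT (2 ^ n)) (elemT e))

/-- The target as a normal form. -/
def fullTgt (k j : ℕ) : ℕ := cond (Nat.beq k j) 0 (2 ^ j + tgt k j)

/-- The relations hold in the permutation group. -/
def relOk : Bool :=
  (List.range 10).all fun j => (List.range (j + 1)).all fun k =>
    Nat.blt (blockOf k j) 55 && Nat.blt (tgt k j) (2 ^ j) &&
      Nat.beq (mulTab (elemT (2 ^ k)) (elemT (2 ^ j))) (elemT (fullTgt k j))

theorem relOk_eq : relOk = true := by decide +kernel

/-- The blocks of the relations are distinct. -/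
def blockOk : Bool :=
  (List.range 10).all fun j => (List.range (j + 1)).all fun k =>
    (List.range 10).all fun j' => (List.range (j' + 1)).all fun k' =>
      !Nat.beq (blockOf k j) (blockOf k' j') || (Nat.beq k k' && Nat.beq j j')

theorem blockOk_eq : blockOk = true := by decide +kernel

/-- A conjugate pair. -/
def cp (i : ℕ) : ℕ × ℕ × ℕ := Data.conj.getD i (0, 0, 0)

/-- The conjugates are as tabulated. -/
def conjOk : Bool :=
  (List.range 16).all fun i =>
    Nat.blt (cp i).1 5 && Nat.blt (cp i).2.1 1024 && Nat.blt (cp i).2.2 1024 &&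
      Nat.beq (mulTab (gT (cp i).1) (elemT (cp i).2.1)) (mulTab (elemT (cp i).2.2) (gT (cp i).1))

theorem conjOk_eq : conjOk = true := by decide +kernel

/-- A product, by default empty. -/
def mulD (x y : ℕ) : ℕ × List ℕ := (mulNF 10 x y).getD (0, [])

/-- A product is computed. -/
def mulK (x y : ℕ) : Bool := (mulNF 10 x y).isSome

theorem mulD_spec {x y : ℕ} (h : mulK x y = true) : mulNF 10 x y = some (mulD x y) := by
  unfold mulK at h
  unfold mulD
  cases hm : mulNF 10 x y with
  | none => rw [hm] at h; cases h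
  | some q => rfl

/-- The form of the first kind of equation. -/
def assocF (a b c : ℕ) : List ℕ :=
  addF (addF (mulD a b).2 (mulD (mulD a b).1 c).2)
    (addF (actF (imE a) (mulD b c).2) (mulD a (mulD b c).1).2)

/-- The block of a conjugate pair. -/
def cblock (o : ℕ) : List ℕ := varF (55 + o)

/-- The form of the second kind of equation. -/
def stabF (o1 o2 o3 : ℕ) : List ℕ :=
  addF (addF (actF (imgsT (gT (cp o1).1)) (mulD (cp o1).2.1 (cp o2).2.1).2) (cblock o3))
    (addF (addF (cblock o1) (actF (imE (cp o1).2.2) (cblock o2)))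
      (mulD (cp o1).2.2 (cp o2).2.2).2)

/-- The form of the fourth power. -/
def fourF (x : ℕ) : List ℕ :=
  addF (addF (mulD (mulD x x).1 (mulD x x).1).2 (mulD x x).2)
    (actF (imE (mulD x x).1) (mulD x x).2)

/-- A functional on forms. -/
def funF (a : ℕ) (f : List ℕ) : ℕ := selXor a.testBit (fun i => f.getD i 0) 11

/-- The form of a change of a lift. -/
def moveF (x : ℕ) : List ℕ := addF (actF (imE x) (varF 0)) (varF 0)

/-- One equation. -/
def eqChk (e : ℕ × ℕ × ℕ × ℕ × ℕ) (row : ℕ) : Bool :=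
  match e.1 with
  | 0 =>
    Nat.blt e.2.2.2.2 11 &&
    Nat.blt e.2.1 10 && Nat.blt e.2.2.1 10 && Nat.blt e.2.2.2.1 10 &&
      mulK (2 ^ e.2.1) (2 ^ e.2.2.1) && mulK (mulD (2 ^ e.2.1) (2 ^ e.2.2.1)).1 (2 ^ e.2.2.2.1) &&
      mulK (2 ^ e.2.2.1) (2 ^ e.2.2.2.1) && mulK (2 ^ e.2.1) (mulD (2 ^ e.2.2.1) (2 ^ e.2.2.2.1)).1 &&
      Nat.beq ((assocF (2 ^ e.2.1) (2 ^ e.2.2.1) (2 ^ e.2.2.2.1)).getD e.2.2.2.2 0) row &&
      Nat.beq (mulD (mulD (2 ^ e.2.1) (2 ^ e.2.2.1)).1 (2 ^ e.2.2.2.1)).1
        (mulD (2 ^ e.2.1) (mulD (2 ^ e.2.2.1) (2 ^ e.2.2.2.1)).1).1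
  | 1 =>
    Nat.blt e.2.2.2.2 11 &&
    Nat.blt e.2.1 16 && Nat.blt e.2.2.1 16 && Nat.blt e.2.2.2.1 16 &&
      Nat.beq (cp e.2.2.1).1 (cp e.2.1).1 && Nat.beq (cp e.2.2.2.1).1 (cp e.2.1).1 &&
      mulK (cp e.2.1).2.1 (cp e.2.2.1).2.1 && mulK (cp e.2.1).2.2 (cp e.2.2.1).2.2 &&
      Nat.beq ((stabF e.2.1 e.2.2.1 e.2.2.2.1).getD e.2.2.2.2 0) row &&
      Nat.beq (mulD (cp e.2.1).2.1 (cp e.2.2.1).2.1).1 (cp e.2.2.2.1).2.1 &&
      Nat.beq (mulD (cp e.2.1).2.2 (cp e.2.2.1).2.2).1 (cp e.2.2.2.1).2.2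
  | _ =>
    Nat.beq e.2.1 352 && mulK 352 352 && mulK (mulD 352 352).1 (mulD 352 352).1 &&
      Nat.beq (mulD (mulD 352 352).1 (mulD 352 352).1).1 0 &&
      Nat.beq (funF e.2.2.1 (fourF 352)) row &&
      Nat.beq (funF e.2.2.1 (addF (actF (imE (mulD 352 352).1) (moveF 352)) (moveF 352))) 0

/-- All equations. -/
def eqsOk : Bool :=
  (List.range 641).all fun m => eqChk (Data.eqs.getD m (0, 0, 0, 0, 0)) (Data.eqRows.getD m 0)

/-- A correction. -/
def fixF (k : ℕ) : List ℕ := Data.fix.getD k []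

/-- The form of a corrected normal form. -/
def hF : ℕ → ℕ → List ℕ
  | 0, _ => []
  | n + 1, e => if 2 ^ n ≤ e then addF (fixF n) (actF (imP n) (hF n (e - 2 ^ n))) else hF n e

/-- The corrected relation. -/
def resF (k j : ℕ) : List ℕ :=
  addF (relF k j) (addF (addF (fixF k) (actF (imP k) (fixF j))) (hF 10 (fullTgt k j)))

/-- The combinations. -/
def resOk : Bool :=
  (List.range 10).all fun j => (List.range (j + 1)).all fun k => (List.range 11).all fun i =>
    Nat.beq ((resF k j).getD i 0)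
      (selXor (fun m => (Data.combos.getD (blockOf k j * 11 + i) 0).testBit m)
        (fun m => Data.eqRows.getD m 0) 641)

/-- A conjugator to the fixed element. -/
def hT (h : ℕ) : ℕ := Data.hTabs.getD h idTab

/-- Fixed vectors are independent. -/
def indep (us : List ℕ) : Bool :=
  (List.range 16).all fun m => Nat.blt (enc us m) 2048 &&
    (List.range 16).all fun m' => !Nat.beq (enc us m) (enc us m') || Nat.beq m m'

/-- The class of one element. -/
def clsChk (e : ℕ) : List ℕ → Bool
  | [] => !Nat.beq (mulTab (mulTab (elemT e) (elemT e)) (mulTab (elemT e) (elemT e))) idTab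
  | [h] => tabOK (hT h) && Nat.beq (mulTab (hT h) (elemT e)) (mulTab (elemT 352) (hT h))
  | us => indep us && (List.range 16).all fun m => Nat.beq (enc (imE e) (enc us m)) (enc us m)

/-- The classes. -/
def clsOk : Bool := (List.range 1024).all fun e => clsChk e (Data.cls.getD e [])

end Cfsg.Agent.M24CocodeSplit.Checks
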