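import Cfsg.Agent.Lib.M24CocodeSplit.CheckDefs

/-!
Kernel check of the equations.
-/

set_option autoImplicit false
set_option maxRecDepth 20000

namespace Cfsg.Agent.M24CocodeSplit.Checks

open Cfsg Cfsg.Agent.Golay.Basic Cfsg.Agent.Golay.Cert Cfsg.Agent.Golay.TabList
open Cfsg.Agent.Golay.M24 Cfsg.Agent.M24CocodeSplit.Collect

theorem eqsOk_low : ((List.range 320).all fun e => eqChk (Data.eqs.getD e (0, 0, 0, 0, 0)) (Data.eqRows.getD e 0)) = true := by
  decide +kernel

theorem eqsOk_high : ((List.range 321).all fun e =>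
    eqChk (Data.eqs.getD (320 + e) (0, 0, 0, 0, 0)) (Data.eqRows.getD (320 + e) 0)) = true := by
  decide +kernel

theorem eqsOk_eq : eqsOk = true := by
  rw [eqsOk, List.all_eq_true]
  intro e he
  rw [List.mem_range] at he
  rcases Nat.lt_or_ge e 320 with h | h
  · exact List.all_eq_true.1 eqsOk_low e (List.mem_range.2 h)
  · obtain ⟨d, rfl⟩ := Nat.exists_eq_add_of_le h
    exact List.all_eq_true.1 eqsOk_high d (List.mem_range.2 (by omega))

end Cfsg.Agent.M24CocodeSplit.Checks
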