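import Cfsg.Agent.Lib.M24CocodeSplit.CheckDefs

/-!
Kernel check of the combinations.
-/

set_option autoImplicit false
set_option maxRecDepth 20000

namespace Cfsg.Agent.M24CocodeSplit.Checks

open Cfsg Cfsg.Agent.Golay.Basic Cfsg.Agent.Golay.Cert Cfsg.Agent.Golay.TabList
open Cfsg.Agent.Golay.M24 Cfsg.Agent.M24CocodeSplit.Collect

theorem resOk_eq : resOk = true := by decide +kernel

end Cfsg.Agent.M24CocodeSplit.Checks
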