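import Cfsg.Agent.Lib.M24CocodeSplit.ChecksElems
import Cfsg.Agent.Lib.M24CocodeSplit.ChecksEqs
import Cfsg.Agent.Lib.M24CocodeSplit.ChecksRes
import Cfsg.Agent.Lib.M24CocodeSplit.ChecksCls

/-!
All kernel checks of the tables, the equations and the classes of elements.
-/
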