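import Cfsg.Agent.Lib.M24CocodeSplit.CheckDefs

/-!
Kernel check of the elements.
-/

set_option autoImplicit false
set_option maxRecDepth 20000

namespace Cfsg.Agent.M24CocodeSplit.Checks

open Cfsg Cfsg.Agent.Golay.Basic Cfsg.Agent.Golay.Cert Cfsg.Agent.Golay.TabList
open Cfsg.Agent.Golay.M24 Cfsg.Agent.M24CocodeSplit.Collect

theorem elemsOk_low : ((List.range 512).all fun e => imgChk (elemT e) (imE e)) = true := by
  decide +kernel

theorem elemsOk_high :
    ((List.range 512).all fun e => imgChk (elemT (512 + e)) (imE (512 + e))) = true := by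
  decide +kernel

theorem elemsOk_img : ((List.range 1024).all fun e => imgChk (elemT e) (imE e)) = true := by
  rw [List.all_eq_true]
  intro e he
  rw [List.mem_range] at he
  rcases Nat.lt_or_ge e 512 with h | h
  · exact List.all_eq_true.1 elemsOk_low e (List.mem_range.2 h)
  · obtain ⟨d, rfl⟩ := Nat.exists_eq_add_of_le h
    exact List.all_eq_true.1 elemsOk_high d (List.mem_range.2 (by omega))

theorem elemsOk_gen : ((List.range 5).all fun u => imgChk (gT u) (imgsT (gT u))) = true := by
  decide +kernel

theorem elemsOk_one : Nat.beq (elemT 0) idTab = true := by decide +kernel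

theorem elemsOk_pow : ((List.range 10).all fun n =>
    imgChk (elemT (2 ^ n)) (imP n) && (List.range (2 ^ n)).all fun e =>
      Nat.beq (elemT (2 ^ n + e)) (mulTab (elemT (2 ^ n)) (elemT e)) &&
        !Nat.beq (elemT (2 ^ n)) (elemT e)) = true := by
  decide +kernel

theorem elemsOk_eq : elemsOk = true := by
  rw [elemsOk, elemsOk_img, elemsOk_gen, elemsOk_one, elemsOk_pow]
  rfl

end Cfsg.Agent.M24CocodeSplit.Checks
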