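import Cfsg.Agent.Lib.M24CocodeSplit.Data
import Cfsg.Agent.Lib.M24CocodeSplit.Table
import Cfsg.Agent.Lib.Golay.SylowTwoData
import Cfsg.Agent.Lib.Golay.TabList

/-!
Symbolic values in the even cocode and collection in an extension of a Sylow 2-subgroup of M24
by it.
-/

set_option autoImplicit false
set_option maxRecDepth 20000

namespace Cfsg.Agent.M24CocodeSplit.Collect

open Cfsg Cfsg.Agent.Golay.Basic Cfsg.Agent.Golay.Cert Cfsg.Agent.Golay.TabList
open Cfsg.Agent.Golay.M24

/-! ### Linear forms -/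

/-- The number of unknown bits. -/
def nVars : ℕ := 781

/-- A bit as an element of the prime field. -/
def bitz (m i : ℕ) : ZMod 2 := if m.testBit i then 1 else 0

theorem bitz_xor (a b i : ℕ) : bitz (a ^^^ b) i = bitz a i + bitz b i := by
  simp only [bitz, Nat.testBit_xor]
  cases a.testBit i <;> cases b.testBit i <;> decide

theorem bitz_zero (i : ℕ) : bitz 0 i = 0 := by simp [bitz]

/-- The value of a row under an assignment. -/
noncomputable irreducible_def rv (v : ℕ → ZMod 2) (m : ℕ) : ZMod 2 :=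
  ∑ i ∈ Finset.range nVars, bitz m i * v i

theorem rv_xor (v : ℕ → ZMod 2) (a b : ℕ) : rv v (a ^^^ b) = rv v a + rv v b := by
  simp only [rv_def, bitz_xor, add_mul, Finset.sum_add_distrib]

theorem rv_zero (v : ℕ → ZMod 2) : rv v 0 = 0 := by simp [rv_def, bitz_zero]

theorem rv_two_pow (v : ℕ → ZMod 2) {k : ℕ} (hk : k < nVars) : rv v (2 ^ k) = v k := by
  rw [rv_def, Finset.sum_eq_single k]
  · simp [bitz]
  · intro i _ hi
    simp [bitz, Nat.testBit_two_pow, Ne.symm hi]
  · intro h; exact absurd (Finset.mem_range.2 hk) h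

theorem rv_zero_fun (m : ℕ) : rv (fun _ => 0) m = 0 := by simp [rv_def]

/-- Vectors of length eleven. -/
abbrev V : Type := Fin 11 → ZMod 2

/-- The value of a form. -/
noncomputable def fv (v : ℕ → ZMod 2) (f : List ℕ) : V := fun i => rv v (f.getD i.1 0)

theorem getD_map_range (g : ℕ → ℕ) {i : ℕ} (hi : i < 11) :
    ((List.range 11).map g).getD i 0 = g i := by
  rw [List.getD_eq_getElem _ _ (by simpa using hi)]
  simp

/-- Sum of forms. -/
def addF (f g : List ℕ) : List ℕ := (List.range 11).map fun i => f.getD i 0 ^^^ g.getD i 0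

theorem fv_add (v : ℕ → ZMod 2) (f g : List ℕ) : fv v (addF f g) = fv v f + fv v g := by
  funext i
  show rv v _ = rv v _ + rv v _
  rw [addF, getD_map_range _ i.2, rv_xor]

theorem fv_nil (v : ℕ → ZMod 2) : fv v [] = 0 := funext fun _ => rv_zero v

theorem fv_zero_fun (f : List ℕ) : fv (fun _ => 0) f = 0 := funext fun _ => rv_zero_fun _

/-- Selected xor. -/
def selXor (sel : ℕ → Bool) (val : ℕ → ℕ) : ℕ → ℕ
  | 0 => 0
  | n + 1 => selXor sel val n ^^^ cond (sel n) (val n) 0

theorem rv_selXor (v : ℕ → ZMod 2) (sel : ℕ → Bool) (val : ℕ → ℕ) : ∀ n,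
    rv v (selXor sel val n) = ∑ j ∈ Finset.range n, if sel j then rv v (val j) else 0
  | 0 => by simp [selXor, rv_zero]
  | n + 1 => by
    rw [selXor, rv_xor, rv_selXor v sel val n, Finset.sum_range_succ]
    cases sel n <;> simp [rv_zero]

/-- A linear map on forms. -/
def actF (gi f : List ℕ) : List ℕ :=
  (List.range 11).map fun i => selXor (fun j => (gi.getD j 0).testBit i) (fun j => f.getD j 0) 11

/-- A linear map on vectors. -/
def actX (gi : List ℕ) (x : V) : V := fun i => ∑ j : Fin 11, bitz (gi.getD j.1 0) i.1 * x j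

theorem fv_act (v : ℕ → ZMod 2) (gi f : List ℕ) : fv v (actF gi f) = actX gi (fv v f) := by
  funext i
  show rv v _ = _
  rw [actF, getD_map_range _ i.2, rv_selXor, Finset.sum_range, actX]
  refine Finset.sum_congr rfl fun j _ => ?_
  show (if (gi.getD j.1 0).testBit i.1 then rv v (f.getD j.1 0) else 0) = bitz _ _ * rv v (f.getD j.1 0)
  unfold bitz
  split_ifs <;> simp

/-- The unknown vector of one block. -/
def varF (b : ℕ) : List ℕ := (List.range 11).map fun i => 2 ^ (b * 11 + i)

theorem fv_var (v : ℕ → ZMod 2) {b : ℕ} (hb : b < 71) : fv v (varF b) = fun i => v (b * 11 + i.1) := by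
  funext i
  show rv v _ = _
  rw [varF, getD_map_range _ i.2, rv_two_pow _ (by have := i.2; simp only [nVars]; omega)]

/-- Equality of forms. -/
def eqF (f g : List ℕ) : Bool := (List.range 11).all fun i => Nat.beq (f.getD i 0) (g.getD i 0)

theorem fv_eqF {v : ℕ → ZMod 2} {f g : List ℕ} (h : eqF f g = true) : fv v f = fv v g := by
  funext i
  show rv v _ = rv v _
  have h' := List.all_eq_true.1 h i.1 (List.mem_range.2 i.2)
  rw [Nat.eq_of_beq_eq_true h']

/-! ### Tables -/

/-- One element of the Sylow subgroup. -/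
def elemT (e : ℕ) : ℕ := Cfsg.Agent.Golay.SylowTwoData.s24Elems.getD e idTab

/-- The code words avoiding the last point, as functionals. -/
def sub : List ℕ :=
  [4845570, 7221256, 2019456, 4038912, 8077824, 1302533, 6053905, 7417889, 2854977, 7767041, 2422785]

/-- Coordinates of an even mask. -/
def xOf (m : ℕ) : ℕ := enc ((List.range 11).map fun j => 2 ^ j)
  (enc ((List.range 24).map fun i =>
    (enc ((List.range 11).map fun j => 2 ^ j)
      (selXor (fun j => (sub.getD j 0).testBit i) (fun j => 2 ^ j) 11))) m)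

/-- Images of the basis under a table. -/
def imgsT (t : ℕ) : List ℕ := Data.rep.map fun r => xOf (imgTab t r)

/-- Images of the basis under a generator. -/
def imP (k : ℕ) : List ℕ := Data.imgsPc.getD k []

/-- The target of a relation. -/
def tgt (k j : ℕ) : ℕ := (Data.target.getD j []).getD k 0

/-- The block of a relation. -/
def blockOf (k j : ℕ) : ℕ := if Nat.beq k j then k else 10 + j * (j - 1) / 2 + k

/-- The form of a relation. -/
def relF (k j : ℕ) : List ℕ := varF (blockOf k j)

/-- A generator times a normal form. -/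
def ent (k e : ℕ) : Option (ℕ × List ℕ) :=
  if e < 2 ^ k then some (2 ^ k + e, [])
  else if e < 2 ^ (k + 1) then some (e - 2 ^ k, relF k k)
  else ((Data.mulRows.getD k []).find? fun r => Nat.beq r.1 e).map Prod.snd

/-- A product of normal forms: `x` below `2 ^ n`. -/
def mulNF : ℕ → ℕ → ℕ → Option (ℕ × List ℕ)
  | 0, _, y => some (y, [])
  | n + 1, x, y =>
    if 2 ^ n ≤ x then
      (mulNF n (x - 2 ^ n) y).bind fun p => (ent n p.1).map fun q => (q.1, addF (actF (imP n) p.2) q.2)
    else mulNF n x y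

/-- The highest bit. -/
def topBit : ℕ → ℕ → ℕ
  | 0, _ => 0
  | n + 1, e => if 2 ^ n ≤ e then n else topBit n e

/-- An entry of the table follows from lower ones. -/
def rowOk (k : ℕ) (r : ℕ × ℕ × List ℕ) : Bool :=
  Nat.blt k (topBit 10 r.1) && Nat.blt (topBit 10 r.1) 10 && Nat.ble (2 ^ topBit 10 r.1) r.1 &&
    Nat.blt r.1 (2 ^ (topBit 10 r.1 + 1)) &&
    Nat.blt (tgt k (topBit 10 r.1)) (2 ^ topBit 10 r.1) &&
    match mulNF (topBit 10 r.1) (tgt k (topBit 10 r.1)) (r.1 - 2 ^ topBit 10 r.1) with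
    | some q => Nat.beq r.2.1 (2 ^ topBit 10 r.1 + q.1) &&
        eqF r.2.2 (addF (relF k (topBit 10 r.1)) (actF (imP (topBit 10 r.1)) q.2))
    | none => false

theorem rowsOk_eq : ∀ k < 10, ((Data.mulRows.getD k []).all (rowOk k)) = true := by decide +kernel

/-! ### Collection -/

variable {E : Type*} [Group E] (ι : V → E) (A : ℕ → E)

/-- The normal form. -/
def eh : ℕ → ℕ → E
  | 0, _ => 1
  | n + 1, e => if 2 ^ n ≤ e then A n * eh n (e - 2 ^ n) else eh n e

theorem eh_low {n e : ℕ} (h : e < 2 ^ n) : eh A (n + 1) e = eh A n e := by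
  rw [eh, if_neg (by omega)]

theorem eh_high {n e : ℕ} : eh A (n + 1) (2 ^ n + e) = A n * eh A n e := by
  rw [eh, if_pos (by omega), Nat.add_sub_cancel_left]

theorem eh_mono {m e : ℕ} : ∀ {n}, m ≤ n → e < 2 ^ m → eh A n e = eh A m e
  | n, h, he => by
    induction n with
    | zero => rw [Nat.le_zero.1 h]
    | succ n ih =>
      rcases Nat.eq_or_lt_of_le h with rfl | h'
      · rfl
      · rw [eh_low A (lt_of_lt_of_le he (Nat.pow_le_pow_right (by norm_num) (by omega))),
          ih (by omega)]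

theorem eh_top {n e : ℕ} (hn : n < 10) (he : e < 2 ^ n) : eh A 10 (2 ^ n + e) = A n * eh A 10 e := by
  rw [eh_mono A (m := n + 1) (by omega) (by rw [pow_succ]; omega), eh_high,
    eh_mono A (m := n) (by omega : n ≤ 10) he]

/-- The data needed for collecting. -/
structure Setting (v : ℕ → ZMod 2) : Prop where
  add : ∀ x y, ι (x + y) = ι x * ι y
  act : ∀ k < 10, ∀ x, A k * ι x = ι (actX (imP k) x) * A k
  sq : ∀ k < 10, A k * A k = ι (fv v (relF k k))
  rel : ∀ j < 10, ∀ k < j, A k * A j = ι (fv v (relF k j)) * (A j * eh A 10 (tgt k j))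

variable {ι A} {v : ℕ → ZMod 2}

theorem Setting.zero (S : Setting ι A v) : ι 0 = 1 := by
  have := S.add 0 0
  rw [add_zero] at this
  exact mul_eq_left.1 this.symm

theorem Setting.mulNF_spec (S : Setting ι A v) {n : ℕ} (hn : n ≤ 10)
    (hL : ∀ k < n, ∀ e < 2 ^ n, ∀ q, ent k e = some q → q.1 < 2 ^ n ∧
      A k * eh A 10 e = ι (fv v q.2) * eh A 10 q.1) :
    ∀ i ≤ n, ∀ x < 2 ^ i, ∀ y < 2 ^ n, ∀ q, mulNF i x y = some q → q.1 < 2 ^ n ∧
      eh A 10 x * eh A 10 y = ι (fv v q.2) * eh A 10 q.1 := by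
  intro i
  induction i with
  | zero =>
    intro _ x hx y hy q hq
    obtain rfl : x = 0 := by simpa using hx
    rw [mulNF, Option.some.injEq] at hq
    subst hq
    refine ⟨hy, ?_⟩
    rw [fv_nil, S.zero, eh_mono A (Nat.zero_le 10) (by norm_num : 0 < 2 ^ 0)]
    simp only [eh, one_mul]
  | succ i ih =>
    intro hi x hx y hy q hq
    rw [mulNF] at hq
    split_ifs at hq with h
    · have hx' : x - 2 ^ i < 2 ^ i := by rw [pow_succ] at hx; omega
      rw [Option.bind_eq_some_iff] at hq
      obtain ⟨p, hp, hq⟩ := hq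
      rw [Option.map_eq_some_iff] at hq
      obtain ⟨r, hr, rfl⟩ := hq
      obtain ⟨h1, h2⟩ := ih (by omega) _ hx' y hy p hp
      obtain ⟨h3, h4⟩ := hL i (by omega) _ h1 r hr
      refine ⟨h3, ?_⟩
      have ex : eh A 10 x = A i * eh A 10 (x - 2 ^ i) := by
        conv_lhs => rw [show x = 2 ^ i + (x - 2 ^ i) by omega]
        rw [eh_top A (by omega) hx']
      rw [ex, mul_assoc, h2, ← mul_assoc, S.act i (by omega), mul_assoc, h4, ← mul_assoc, ← S.add,
        fv_add, fv_act]
    · exact ih (by omega) x (by omega) y hy q hq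

theorem Setting.table (S : Setting ι A v) : ∀ n ≤ 10, ∀ k < n, ∀ e < 2 ^ n, ∀ q,
    ent k e = some q → q.1 < 2 ^ n ∧ A k * eh A 10 e = ι (fv v q.2) * eh A 10 q.1 := by
  intro n
  induction n using Nat.strong_induction_on with
  | _ n ih =>
    intro hn k hk e he q hq
    have hpk : (2 : ℕ) ^ (k + 1) ≤ 2 ^ n := Nat.pow_le_pow_right (by norm_num) hk
    rw [ent] at hq
    split_ifs at hq with h1 h2
    · rw [Option.some.injEq] at hq
      subst hq
      rw [pow_succ] at hpk
      refine ⟨by show 2 ^ k + e < 2 ^ n; omega, ?_⟩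
      rw [fv_nil, S.zero, one_mul, eh_top A (by omega) h1]
    · rw [Option.some.injEq] at hq
      subst hq
      rw [pow_succ] at hpk h2
      refine ⟨by show e - 2 ^ k < 2 ^ n; omega, ?_⟩
      conv_lhs => rw [show e = 2 ^ k + (e - 2 ^ k) by omega]
      rw [eh_top A (by omega) (by omega), ← mul_assoc, S.sq k (by omega)]
    · rw [Option.map_eq_some_iff] at hq
      obtain ⟨r, hr, rfl⟩ := hq
      have hmem := List.mem_of_find?_eq_some hr
      have hre : r.1 = e := by
        have := List.find?_some hr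
        exact Nat.eq_of_beq_eq_true this
      have hok := List.all_eq_true.1 (rowsOk_eq k (by omega)) r hmem
      simp only [rowOk, Bool.and_eq_true, Nat.blt_eq, Nat.ble_eq] at hok
      obtain ⟨⟨⟨⟨⟨hkm, hm10⟩, hlo⟩, hup⟩, htg⟩, hmatch⟩ := hok
      rw [hre] at hkm hm10 hlo hup htg hmatch
      set m := topBit 10 e
      have hmn : m < n := by
        by_contra hge
        have : (2 : ℕ) ^ n ≤ 2 ^ m := Nat.pow_le_pow_right (by norm_num) (by omega)
        omega
      cases hmul : mulNF m (tgt k m) (e - 2 ^ m) with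
      | none => rw [hmul] at hmatch; simp at hmatch
      | some p =>
        rw [hmul] at hmatch
        simp only [Bool.and_eq_true] at hmatch
        obtain ⟨d1, d2⟩ := hmatch
        rw [pow_succ] at hup
        obtain ⟨p1, p2⟩ := S.mulNF_spec (by omega) (ih m hmn (by omega)) m le_rfl _ htg _ (by omega) p hmul
        have hmn' : (2 : ℕ) ^ (m + 1) ≤ 2 ^ n := Nat.pow_le_pow_right (by norm_num) hmn
        rw [pow_succ] at hmn'
        rw [Nat.eq_of_beq_eq_true d1, fv_eqF d2]
        refine ⟨by omega, ?_⟩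
        conv_lhs => rw [show e = 2 ^ m + (e - 2 ^ m) by omega]
        rw [eh_top A hm10 (by omega), ← mul_assoc, S.rel m hm10 k hkm, mul_assoc, mul_assoc, p2,
          ← mul_assoc (A m), S.act m hm10, mul_assoc, ← eh_top A hm10 p1, fv_add, fv_act, S.add, mul_assoc]

/-- Products of normal forms. -/
theorem Setting.mul_spec (S : Setting ι A v) {x y : ℕ} (hx : x < 1024) (hy : y < 1024) {q : ℕ × List ℕ}
    (hq : mulNF 10 x y = some q) :
    q.1 < 1024 ∧ eh A 10 x * eh A 10 y = ι (fv v q.2) * eh A 10 q.1 :=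
  S.mulNF_spec le_rfl (S.table 10 le_rfl) 10 le_rfl x hx y hy q hq

/-- The normal forms of a family with the relations form a subgroup. -/
theorem pc_subgroup (B : ℕ → E) (t : ℕ → ℕ → ℕ) (ht : ∀ j < 10, ∀ k < j, t k j < 2 ^ j)
    (hsq : ∀ k < 10, B k * B k = 1) (hrel : ∀ j < 10, ∀ k < j, B k * B j = B j * eh B j (t k j)) :
    ∀ n ≤ 10, ∃ H : Subgroup E, ∀ g, g ∈ H ↔ ∃ e < 2 ^ n, g = eh B n e := by
  intro n
  induction n with
  | zero =>
    exact fun _ => ⟨⊥, fun g => ⟨fun h => ⟨0, by norm_num, by simp [eh, Subgroup.mem_bot.1 h]⟩,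
      fun ⟨e, _, h⟩ => Subgroup.mem_bot.2 (by simp [h, eh])⟩⟩
  | succ n ih =>
    intro hn
    obtain ⟨H, hH⟩ := ih (by omega)
    have hb := hsq n (by omega)
    have hgen : ∀ k < n, B n * B k * B n ∈ H := fun k hk => by
      rw [mul_assoc, hrel n (by omega) k hk, ← mul_assoc, hb, one_mul]
      exact (hH _).2 ⟨_, ht n (by omega) k hk, rfl⟩
    have hlev : ∀ m ≤ n, ∀ e, B n * eh B m e * B n ∈ H := by
      intro m
      induction m with
      | zero => intro _ e; rw [eh, mul_one, hb]; exact one_mem _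
      | succ m ihm =>
        intro hm e
        rw [eh]
        split_ifs
        · have := mul_mem (hgen m (by omega)) (ihm (by omega) (e - 2 ^ m))
          rwa [show B n * B m * B n * (B n * eh B m (e - 2 ^ m) * B n) =
            B n * B m * (B n * B n) * eh B m (e - 2 ^ m) * B n by simp only [mul_assoc],
            hb, mul_one, mul_assoc (B n) (B m)] at this
        · exact ihm (by omega) e
    have hconj : ∀ g ∈ H, B n * g * B n ∈ H := fun g hg => by
      obtain ⟨e, -, rfl⟩ := (hH g).1 hg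
      exact hlev n le_rfl e
    refine ⟨{ carrier := {g | g ∈ H ∨ B n * g ∈ H}
              one_mem' := Or.inl (one_mem _)
              mul_mem' := ?_
              inv_mem' := ?_ }, fun g => ⟨?_, ?_⟩⟩
    · rintro a b (ha | ha) (hb' | hb')
      · exact Or.inl (mul_mem ha hb')
      · refine Or.inr ?_
        have := mul_mem (hconj a ha) hb'
        rwa [show B n * a * B n * (B n * b) = B n * a * (B n * B n) * b by simp only [mul_assoc],
          hb, mul_one, mul_assoc] at this
      · exact Or.inr (by rw [← mul_assoc]; exact mul_mem ha hb')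
      · refine Or.inl ?_
        have := mul_mem (hconj _ ha) hb'
        rwa [show B n * (B n * a) * B n * (B n * b) = (B n * B n) * a * (B n * B n) * b by
          simp only [mul_assoc], hb, one_mul, mul_one] at this
    · rintro a (ha | ha)
      · exact Or.inl (inv_mem ha)
      · refine Or.inr ?_
        have := hconj _ (inv_mem ha)
        rwa [show B n * (B n * a)⁻¹ * B n = B n * a⁻¹ by
          rw [mul_inv_rev, inv_eq_of_mul_eq_one_right hb]; simp only [mul_assoc, hb, mul_one]] at this
    · rintro (hg | hg)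
      · obtain ⟨e, he, rfl⟩ := (hH g).1 hg
        exact ⟨e, by rw [pow_succ]; omega, (eh_low B he).symm⟩
      · obtain ⟨e, he, hge⟩ := (hH _).1 hg
        refine ⟨2 ^ n + e, by rw [pow_succ]; omega, ?_⟩
        rw [eh_high, ← hge, ← mul_assoc, hb, one_mul]
    · rintro ⟨e, he, rfl⟩
      rcases Nat.lt_or_ge e (2 ^ n) with h | h
      · rw [eh_low B h]
        exact Or.inl ((hH _).2 ⟨e, h, rfl⟩)
      · obtain ⟨e', rfl⟩ := Nat.exists_eq_add_of_le h
        refine Or.inr ?_
        rw [eh_high, ← mul_assoc, hb, one_mul]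
        exact (hH _).2 ⟨e', by rw [pow_succ] at he; omega, rfl⟩

end Cfsg.Agent.M24CocodeSplit.Collect
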